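import Groth.Agent.EtInvLib.Orbit
import Groth.Agent.FreeQuotEt.Normal
import Groth.Agent.EtLocalLib.LocalEtale
import Mathlib

/-!
# Luna's fundamental lemma: étale descends to the invariants
-/

set_option autoImplicit false
set_option backward.isDefEq.respectTransparency false
set_option backward.isDefEq.respectTransparency.types false

noncomputable section

universe u

open TensorProduct WithConv

namespace Groth.Agent.EtInv

open Groth.Agent.Comodule Groth.Agent.EqZMT

/-- A flat unramified algebra has reduced fibres over integral closed subschemes. -/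
theorem isReduced_quotient_map (S L : Type u) [CommRing S] [CommRing L] [Algebra S L] [Module.Flat S L]
    [Algebra.FormallyUnramified S L] [Algebra.EssFiniteType S L] (J : Ideal S) [J.IsPrime] :
    IsReduced (L ⧸ J.map (algebraMap S L)) := by
  let F := FractionRing (S ⧸ J)
  let f : (S ⧸ J) →ₐ[S] F := IsScalarTower.toAlgHom S (S ⧸ J) F
  have hf : Function.Injective f := IsFractionRing.injective (S ⧸ J) F
  haveI : IsReduced (F ⊗[S] L) := Algebra.FormallyUnramified.isReduced_of_field F (F ⊗[S] L)
  haveI : IsReduced (L ⊗[S] F) :=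
    isReduced_of_injective (Algebra.TensorProduct.comm S L F).toRingEquiv.toRingHom
      (Algebra.TensorProduct.comm S L F).injective
  have hinj : Function.Injective (Algebra.TensorProduct.map (AlgHom.id S L) f) :=
    Module.Flat.lTensor_preserves_injective_linearMap f.toLinearMap hf
  haveI : IsReduced (L ⊗[S] (S ⧸ J)) :=
    isReduced_of_injective (Algebra.TensorProduct.map (AlgHom.id S L) f).toRingHom hinj
  exact isReduced_of_injective (Algebra.TensorProduct.quotIdealMapEquivTensorQuot L J).toRingEquiv.toRingHom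
    (Algebra.TensorProduct.quotIdealMapEquivTensorQuot L J).injective

/-- Near a point where a finite type map is étale, the extension of a prime is radical. -/
theorem exists_mul_mem_map {S R : Type u} [CommRing S] [CommRing R] [Algebra S R] [IsNoetherianRing S]
    [Algebra.FiniteType S R] [IsNoetherianRing R] (m : Ideal R) [m.IsPrime] [Algebra.IsEtaleAt S m]
    (J : Ideal S) [J.IsPrime] (K : Ideal R)
    (h : ∀ P : Ideal R, P.IsPrime → P ≤ m → J.map (algebraMap S R) ≤ P → K ≤ P) :
    ∃ r ∉ m, ∀ c ∈ K, r * c ∈ J.map (algebraMap S R) := by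
  classical
  haveI : Algebra.FinitePresentation S R := Algebra.FinitePresentation.of_finiteType.mp inferInstance
  let L := Localization.AtPrime m
  haveI : Module.Flat S L := EtLocalLib.flat_of_isEtaleAt S R m
  haveI : Algebra.FormallyEtale S L := ‹Algebra.IsEtaleAt S m›
  haveI : Algebra.EssFiniteType R L := Algebra.EssFiniteType.of_isLocalization L m.primeCompl
  haveI : Algebra.EssFiniteType S L := Algebra.EssFiniteType.comp S R L
  have hmap : J.map (algebraMap S L) = (J.map (algebraMap S R)).map (algebraMap R L) := by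
    rw [Ideal.map_map, ← IsScalarTower.algebraMap_eq]
  haveI := isReduced_quotient_map S L J
  have hrad : (J.map (algebraMap S L)).IsRadical :=
    (Ideal.isRadical_iff_quotient_reduced _).2 inferInstance
  have hone : ∀ c ∈ K, ∃ r ∉ m, r * c ∈ J.map (algebraMap S R) := by
    intro c hc
    have hcL : algebraMap R L c ∈ J.map (algebraMap S L) := by
      rw [← hrad.radical, Ideal.radical_eq_sInf, Ideal.mem_sInf]
      rintro P ⟨hP, hPp⟩
      haveI := hPp
      refine h (P.comap (algebraMap R L)) (Ideal.IsPrime.comap _) (fun r hr => ?_) ?_ hc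
      · by_contra hrm
        exact hPp.ne_top (Ideal.eq_top_of_isUnit_mem _ hr (IsLocalization.map_units L (⟨r, hrm⟩ : m.primeCompl)))
      · rw [← Ideal.map_le_iff_le_comap, ← hmap]
        exact hP
    rw [hmap, IsLocalization.mem_map_algebraMap_iff m.primeCompl] at hcL
    obtain ⟨⟨⟨a, ha⟩, ⟨s, hs⟩⟩, he⟩ := hcL
    rw [← map_mul] at he
    obtain ⟨⟨t, ht⟩, he'⟩ := (IsLocalization.eq_iff_exists m.primeCompl L).1 he
    refine ⟨t * s, fun hh => ((‹m.IsPrime›.mem_or_mem hh).elim ht hs), ?_⟩
    have e : t * s * c = t * a := by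
      simp only at he'
      linear_combination he'
    rw [e]
    exact Ideal.mul_mem_left _ _ ha
  obtain ⟨G, hG⟩ := (isNoetherianRing_iff_ideal_fg R).1 inferInstance K
  have hGK : ∀ c ∈ G, c ∈ K := fun c hc => hG ▸ Submodule.subset_span hc
  have key : ∀ H : Finset R, (∀ c ∈ H, c ∈ K) → ∃ r ∉ m, ∀ c ∈ H, r * c ∈ J.map (algebraMap S R) := by
    intro H
    induction H using Finset.induction_on with
    | empty => exact fun _ => ⟨1, fun h1 => ‹m.IsPrime›.ne_top ((Ideal.eq_top_iff_one _).2 h1), by simp⟩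
    | @insert a H _ ih =>
      intro hH
      obtain ⟨r, hr, hr'⟩ := ih fun c hc => hH c (Finset.mem_insert_of_mem hc)
      obtain ⟨r1, hr1, hr1'⟩ := hone a (hH a (Finset.mem_insert_self _ _))
      refine ⟨r * r1, fun hh => ((‹m.IsPrime›.mem_or_mem hh).elim hr hr1), fun c hc => ?_⟩
      rcases Finset.mem_insert.1 hc with rfl | hc
      · rw [mul_assoc]; exact Ideal.mul_mem_left _ _ hr1'
      · rw [mul_comm r r1, mul_assoc]; exact Ideal.mul_mem_left _ _ (hr' c hc)
  obtain ⟨r, hr, hr'⟩ := key G hGK
  refine ⟨r, hr, fun c hc => ?_⟩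
  rw [← hG] at hc
  induction hc using Submodule.span_induction with
  | mem c hc => exact hr' c hc
  | zero => simp
  | add a b _ _ ha hb => rw [mul_add]; exact add_mem ha hb
  | smul a b _ hb => rw [smul_eq_mul, mul_left_comm]; exact Ideal.mul_mem_left _ _ hb

section

variable {k : Type u} [Field k] [IsAlgClosed k] [CharZero k] {A : Type u} [CommRing A] [IsDomain A]
  [HopfAlgebra k A] [Algebra.FiniteType k A]
variable {S : Type u} [CommRing S] [Algebra k S] [Algebra.FiniteType k S] [HopfRep.Comod k A S]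
  [GLin.IsCoactAlg k A S]
variable {R : Type u} [CommRing R] [Algebra k R] [Algebra.FiniteType k R] [HopfRep.Comod k A R]
  [GLin.IsCoactAlg k A R]
variable [Algebra S R] [IsScalarTower k S R] [Module.Finite S R]

variable (k A S R) in
/-- Compatibility of the two actions. -/
def Equivariant : Prop := ∀ s : S, HopfRep.Comod.coact (k := k) (A := A) (algebraMap S R s) =
  Algebra.TensorProduct.map (IsScalarTower.toAlgHom k S R) (AlgHom.id k A)
    (HopfRep.Comod.coact (k := k) (A := A) s)

variable (hequiv : Equivariant k A S R)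
include hequiv

omit [IsAlgClosed k] [CharZero k] [IsDomain A] [Algebra.FiniteType k A] [Algebra.FiniteType k S]
  [Algebra.FiniteType k R] [Module.Finite S R] in
theorem transl_algebraMap (g : A →ₐ[k] k) (s : S) :
    transl k A g (algebraMap S R s) = algebraMap S R (transl k A g s) := by
  rw [transl_apply, transl_apply, hequiv]
  induction HopfRep.Comod.coact (k := k) (A := A) s with
  | zero => simp
  | add y z hy hz => simp only [map_add, hy, hz]
  | tmul a b => simp [rcon, Algebra.smul_def, IsScalarTower.algebraMap_apply k S R]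

omit [IsAlgClosed k] [CharZero k] [IsDomain A] [Algebra.FiniteType k A] [Algebra.FiniteType k S]
  [Algebra.FiniteType k R] [Module.Finite S R] in
theorem stable_map {I : Ideal S} (hI : Stable (k := k) A I) : Stable (k := k) A (I.map (algebraMap S R)) := by
  refine Stable.span fun g r hr => ?_
  obtain ⟨s, hs, rfl⟩ := hr
  rw [transl_algebraMap hequiv]
  exact Ideal.subset_span ⟨_, hI g s hs, rfl⟩

omit [IsDomain A] [Algebra.FiniteType k S] [Algebra.FiniteType k R] [Module.Finite S R] in
theorem comap_ker_orbit (z : R →ₐ[k] k) :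
    (RingHom.ker (GLin.orbitHom k A z)).comap (algebraMap S R) =
      RingHom.ker (GLin.orbitHom k A (z.comp (IsScalarTower.toAlgHom k S R))) := by
  ext s
  simp only [Ideal.mem_comap, mem_ker_orbit_iff, transl_algebraMap hequiv, AlgHom.comp_apply,
    IsScalarTower.coe_toAlgHom']

omit [IsAlgClosed k] [CharZero k] [IsDomain A] [Algebra.FiniteType k A] [Algebra.FiniteType k S]
  [Algebra.FiniteType k R] [Module.Finite S R] in
theorem actPt_comp (g : A →ₐ[k] k) (z : R →ₐ[k] k) :
    (GLin.actPt k g z).comp (IsScalarTower.toAlgHom k S R) =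
      GLin.actPt k g (z.comp (IsScalarTower.toAlgHom k S R)) := by
  refine AlgHom.ext fun s => ?_
  simp only [AlgHom.comp_apply, actPt_apply, IsScalarTower.coe_toAlgHom', transl_algebraMap hequiv]

/-- Closed orbits map to closed orbits. -/
theorem closed_image {x : R →ₐ[k] k}
    (hcl : ∀ z : R →ₐ[k] k, RingHom.ker (GLin.orbitHom k A x) ≤ RingHom.ker z → ∃ g : A →ₐ[k] k, z = GLin.actPt k g x)
    (w : S →ₐ[k] k)
    (hw : RingHom.ker (GLin.orbitHom k A (x.comp (IsScalarTower.toAlgHom k S R))) ≤ RingHom.ker w) :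
    ∃ g : A →ₐ[k] k, w = GLin.actPt k g (x.comp (IsScalarTower.toAlgHom k S R)) := by
  haveI : (RingHom.ker (GLin.orbitHom k A x)).IsPrime := RingHom.ker_isPrime _
  haveI : (RingHom.ker w).IsPrime := RingHom.ker_isPrime _
  obtain ⟨Q, hQ, hQp, hQw⟩ := Ideal.exists_ideal_over_prime_of_isIntegral_of_isPrime (RingHom.ker w)
    (RingHom.ker (GLin.orbitHom k A x)) (by rw [comap_ker_orbit hequiv]; exact hw)
  obtain ⟨φ, hφ⟩ := ClosedOrbit.exists_pt (k := k) hQp.ne_top
  obtain ⟨g, rfl⟩ := hcl φ (hQ.trans hφ)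
  refine ⟨g, AlgHom.ext fun s => ?_⟩
  have h1 : s - algebraMap k S (w s) ∈ RingHom.ker w := by simp [RingHom.mem_ker]
  rw [← hQw] at h1
  have h2 := RingHom.mem_ker.1 (hφ h1)
  rw [map_sub, ← IsScalarTower.algebraMap_apply, map_sub, AlgHom.commutes, sub_eq_zero] at h2
  rw [← actPt_comp hequiv]
  simpa using h2.symm

omit [Algebra.FiniteType k S] [Algebra.FiniteType k R] in
/-- Primes over the image orbit near `x` contain the orbit ideal of `x`. -/
theorem ker_orbit_le [Algebra.FiniteType k S] [Algebra.FiniteType k R] {x : R →ₐ[k] k}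
    (hcl : ∀ z : R →ₐ[k] k, RingHom.ker (GLin.orbitHom k A x) ≤ RingHom.ker z → ∃ g : A →ₐ[k] k, z = GLin.actPt k g x)
    (P : Ideal R) (hP : P.IsPrime) (hPx : P ≤ RingHom.ker x)
    (hJP : (RingHom.ker (GLin.orbitHom k A (x.comp (IsScalarTower.toAlgHom k S R)))).map (algebraMap S R) ≤ P) :
    RingHom.ker (GLin.orbitHom k A x) ≤ P := by
  classical
  set y := x.comp (IsScalarTower.toAlgHom k S R) with hy
  let Z := (finite_points_over (R := R) y).toFinset
  have hinf : Z.inf (fun z => RingHom.ker (GLin.orbitHom k A z)) ≤ P := by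
    intro f hf
    by_contra hfP
    haveI : IsReduced (R ⧸ P) := (Ideal.isRadical_iff_quotient_reduced _).1 hP.isRadical
    obtain ⟨ψ, hψ⟩ := PropAct.exists_pt_ne_zero (K := k)
      (show Ideal.Quotient.mk P f ≠ 0 by rwa [ne_eq, Ideal.Quotient.eq_zero_iff_mem])
    let φ : R →ₐ[k] k := ψ.comp (Ideal.Quotient.mkₐ k P)
    have hφP : ∀ r ∈ P, φ r = 0 := fun r hr => by
      simp [φ, Ideal.Quotient.eq_zero_iff_mem.2 hr]
    obtain ⟨g, hg⟩ := closed_image hequiv hcl (φ.comp (IsScalarTower.toAlgHom k S R))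
      (fun s hs => RingHom.mem_ker.2 (hφP _ (hJP (Ideal.mem_map_of_mem _ hs))))
    let z : R →ₐ[k] k := GLin.actPt k (inv g) φ
    have hz : z ∈ Z := by
      simp only [Z, Set.Finite.mem_toFinset, Set.mem_setOf_eq, z]
      rw [actPt_comp hequiv, hg]
      exact (ClosedOrbit.exists_actPt_symm g y).symm
    have hfz : f ∈ RingHom.ker (GLin.orbitHom k A z) := (Finset.inf_le (f := fun z => RingHom.ker (GLin.orbitHom k A z)) hz) hf
    have h0 := (mem_ker_orbit_iff z f).1 hfz g
    have hleft : transl k A (inv g) (transl k A g f) = f := by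
      obtain ⟨f', hf'⟩ : ∃ f', transl k A (inv g) f' = f :=
        ⟨transl k A (inv (inv g)) f, transl_transl_inv (inv g) f⟩
      rw [← hf', transl_transl_inv]
    simp only [z, actPt_apply, hleft] at h0
    exact hψ h0
  obtain ⟨z, hz, hzP⟩ := (Ideal.IsPrime.inf_le' hP).1 hinf
  have hzy : z.comp (IsScalarTower.toAlgHom k S R) = y := by
    simpa [Z] using hz
  haveI : (RingHom.ker (GLin.orbitHom k A z)).IsPrime := RingHom.ker_isPrime _
  have hle : RingHom.ker (GLin.orbitHom k A z) ≤ RingHom.ker (GLin.orbitHom k A x) :=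
    ClosedOrbit.ker_le_of_inOrbitClosure (hzP.trans hPx)
  intro r hr
  refine hzP (by_contra fun hrz => ?_)
  have hlt := Ideal.comap_lt_comap_of_integral_mem_sdiff (R := S) hle ⟨hr, hrz⟩ (Algebra.IsIntegral.isIntegral r)
  rw [comap_ker_orbit hequiv, comap_ker_orbit hequiv, hzy] at hlt
  exact lt_irrefl _ hlt

variable {x : R →ₐ[k] k} [(RingHom.ker x).IsPrime]
  (hcl : ∀ z : R →ₐ[k] k, RingHom.ker (GLin.orbitHom k A x) ≤ RingHom.ker z → ∃ g : A →ₐ[k] k, z = GLin.actPt k g x)
  [Algebra.IsEtaleAt S (RingHom.ker x)]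
include hcl

/-- The orbit of `x` maps isomorphically onto its image. -/
theorem exists_sub_mem_orbit
    (hinj : ∀ g : A →ₐ[k] k, GLin.actPt k g (x.comp (IsScalarTower.toAlgHom k S R)) =
      x.comp (IsScalarTower.toAlgHom k S R) → GLin.actPt k g x = x)
    (r : R) : ∃ t : S, r - algebraMap S R t ∈ RingHom.ker (GLin.orbitHom k A x) := by
  classical
  haveI : IsNoetherianRing S := Algebra.FiniteType.isNoetherianRing k S
  haveI : IsNoetherianRing R := Algebra.FiniteType.isNoetherianRing k R
  haveI : Algebra.FiniteType S R := Algebra.FiniteType.of_restrictScalars_finiteType k S R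
  set y := x.comp (IsScalarTower.toAlgHom k S R) with hy
  set K := RingHom.ker (GLin.orbitHom k A x) with hK
  haveI : (RingHom.ker y).IsPrime := RingHom.ker_isPrime _
  obtain ⟨r0, hr0, hr0'⟩ := exists_mul_mem_map (RingHom.ker x) (RingHom.ker y) (RingHom.ker x)
    (fun P hP hPx hyP => by
      intro a ha
      by_contra haP
      haveI := hP
      have hlt := Ideal.comap_lt_comap_of_integral_mem_sdiff (R := S) hPx ⟨ha, haP⟩ (Algebra.IsIntegral.isIntegral a)
      exact (not_le_of_gt hlt) fun s hs =>
        (Ideal.map_le_iff_le_comap.1 hyP) (show s ∈ RingHom.ker y from hs))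
  let I : Ideal R := K ⊔ (RingHom.ker y).map (algebraMap S R)
  let I' : Ideal R :=
    { carrier := {a | ∀ c ∈ RingHom.ker x, a * c ∈ I}
      add_mem' := fun ha hb c hc => by rw [add_mul]; exact I.add_mem (ha c hc) (hb c hc)
      zero_mem' := fun c _ => by simp
      smul_mem' := fun a b hb c hc => by rw [smul_eq_mul, mul_assoc]; exact I.mul_mem_left a (hb c hc) }
  have hI' : I' = ⊤ := by
    by_contra hne
    obtain ⟨φ, hφ⟩ := ClosedOrbit.exists_pt (k := k) hne
    have hII' : I ≤ I' := fun a ha c _ => I.mul_mem_right c ha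
    obtain ⟨g, rfl⟩ := hcl φ ((le_sup_left.trans hII').trans hφ)
    have hy' : GLin.actPt k g y = y := by
      rw [← actPt_comp hequiv]
      refine AlgHom.ext fun s => ?_
      have h1 : algebraMap S R (s - algebraMap k S (y s)) ∈ I :=
        Ideal.mem_sup_right (Ideal.mem_map_of_mem _ (by simp [RingHom.mem_ker]))
      have h2 := RingHom.mem_ker.1 (hφ (hII' h1))
      rw [map_sub, ← IsScalarTower.algebraMap_apply, map_sub, AlgHom.commutes, sub_eq_zero] at h2
      simpa using h2
    have h3 := RingHom.mem_ker.1 (hφ (show r0 ∈ I' from fun c hc => Ideal.mem_sup_right (hr0' c hc)))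
    rw [hinj g hy'] at h3
    exact hr0 (RingHom.mem_ker.2 h3)
  have hmI : RingHom.ker x ≤ I := fun c hc => by
    simpa using (hI' ▸ Submodule.mem_top : (1 : R) ∈ I') c hc
  let N : Submodule S R := LinearMap.range (Algebra.linearMap S R) ⊔ K.restrictScalars S
  have hN : ∀ a : R, a ∈ N ↔ ∃ t : S, a - algebraMap S R t ∈ K := fun a => by
    simp only [N, Submodule.mem_sup, LinearMap.mem_range, Algebra.linearMap_apply, Submodule.restrictScalars_mem]
    constructor
    · rintro ⟨_, ⟨t, rfl⟩, c, hc, rfl⟩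
      exact ⟨t, by simpa using hc⟩
    · rintro ⟨t, ht⟩
      exact ⟨_, ⟨t, rfl⟩, _, ht, by ring⟩
  have htop : (⊤ : Submodule S (R ⧸ N)) ≤ RingHom.ker y • (⊤ : Submodule S (R ⧸ N)) := by
    rintro a -
    induction a using Submodule.Quotient.induction_on with
    | _ a =>
    obtain ⟨c, hc, d, hd, hcd⟩ := Submodule.mem_sup.1 (hmI (show a - algebraMap k R (x a) ∈ RingHom.ker x by
      simp [RingHom.mem_ker]))
    have hc' : a - d ∈ N := (hN _).2 ⟨algebraMap k S (x a), by
      rw [← IsScalarTower.algebraMap_apply]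
      have : a - d - algebraMap k R (x a) = c := by linear_combination -hcd
      rwa [this]⟩
    rw [show (Submodule.Quotient.mk a : R ⧸ N) = Submodule.Quotient.mk d from (Submodule.Quotient.eq N).2 hc']
    have hd' : d ∈ (RingHom.ker y) • (⊤ : Submodule S R) := by
      rw [Ideal.smul_top_eq_map]; exact hd
    refine Submodule.smul_induction_on hd' (fun s hs b _ => ?_) (fun p q hp hq => ?_)
    · rw [Submodule.Quotient.mk_smul]; exact Submodule.smul_mem_smul hs Submodule.mem_top
    · rw [Submodule.Quotient.mk_add]; exact Submodule.add_mem _ hp hq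
  obtain ⟨s0, hs0, hs0'⟩ := Submodule.exists_sub_one_mem_and_smul_eq_zero_of_fg_of_le_smul (RingHom.ker y) ⊤
    Module.Finite.fg_top htop
  let Ann : Ideal S :=
    { carrier := {s | ∀ a : R, s • a ∈ N}
      add_mem' := fun hs ht a => by rw [add_smul]; exact N.add_mem (hs a) (ht a)
      zero_mem' := fun a => by rw [zero_smul]; exact N.zero_mem
      smul_mem' := fun c s hs a => by rw [smul_eq_mul, mul_smul]; exact N.smul_mem c (hs a) }
  have hNst : ∀ (g : A →ₐ[k] k) (a : R), a ∈ N → transl k A g a ∈ N := by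
    intro g a ha
    obtain ⟨t, ht⟩ := (hN a).1 ha
    refine (hN _).2 ⟨transl k A g t, ?_⟩
    rw [← transl_algebraMap hequiv, ← map_sub]
    exact stable_ker_orbit x g _ ht
  have hAnn : Stable (k := k) A Ann := by
    intro g s hs a
    rw [← transl_transl_inv g a, Algebra.smul_def, ← transl_algebraMap hequiv, ← map_mul, ← Algebra.smul_def]
    exact hNst g _ (hs _)
  have hs0A : s0 ∈ Ann := fun a => by
    rw [← Submodule.Quotient.mk_eq_zero, Submodule.Quotient.mk_smul]
    exact hs0' _ Submodule.mem_top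
  have hys0 : y s0 ≠ 0 := by
    have := RingHom.mem_ker.1 hs0
    rw [map_sub, map_one, sub_eq_zero] at this
    simp [this]
  obtain ⟨s, hs, j, hj, hsj⟩ := Submodule.mem_sup.1
    (sup_eq_top (closed_image hequiv hcl) hAnn hs0A hys0 ▸ Submodule.mem_top : (1 : S) ∈ _)
  obtain ⟨t, ht⟩ := (hN _).1 (hs r)
  refine ⟨t, ?_⟩
  have hjr : algebraMap S R j * r ∈ K := by
    refine Ideal.mul_mem_right _ _ ?_
    rw [← Ideal.mem_comap, hK, comap_ker_orbit hequiv]
    exact hj
  have e : r - algebraMap S R t = s • r - algebraMap S R t + algebraMap S R j * r := by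
    rw [Algebra.smul_def]
    have h1 : algebraMap S R s + algebraMap S R j = 1 := by rw [← map_add, hsj, map_one]
    linear_combination -r * h1
  rw [e]
  exact K.add_mem ht hjr

omit hcl [Algebra.IsEtaleAt S (RingHom.ker x)] [(RingHom.ker x).IsPrime] in
/-- Successive approximation along the orbit. -/
theorem exists_approx {e : R}
    (he : ∀ c ∈ RingHom.ker (GLin.orbitHom k A x),
      e * c ∈ (RingHom.ker (GLin.orbitHom k A (x.comp (IsScalarTower.toAlgHom k S R)))).map (algebraMap S R))
    (he1 : e - 1 ∈ RingHom.ker (GLin.orbitHom k A x))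
    (hR : ∀ r : R, ∃ t : S, r - algebraMap S R t ∈ RingHom.ker (GLin.orbitHom k A x)) (n : ℕ) (f : R) :
    ∃ s : S, e ^ n * (f - algebraMap S R s) ∈
      ((RingHom.ker (GLin.orbitHom k A (x.comp (IsScalarTower.toAlgHom k S R)))) ^ n).map (algebraMap S R) := by
  set K := RingHom.ker (GLin.orbitHom k A x)
  set J := RingHom.ker (GLin.orbitHom k A (x.comp (IsScalarTower.toAlgHom k S R)))
  have he' : ∀ (m : ℕ) (c : R) (j : S), c ∈ K → j ∈ J ^ m →
      e * c * algebraMap S R j ∈ (J ^ (m + 1)).map (algebraMap S R) := by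
    intro m c j hc hj
    rw [pow_succ', Ideal.map_mul]
    exact Ideal.mul_mem_mul (he c hc) (Ideal.mem_map_of_mem _ hj)
  have hu : ∀ m : ℕ, e ^ m - 1 ∈ K := fun m => by
    obtain ⟨c, hc⟩ := sub_dvd_pow_sub_pow e 1 m
    rw [one_pow] at hc
    rw [hc]
    exact K.mul_mem_right _ he1
  have step : ∀ (m : ℕ) (q : R), q ∈ (J ^ m).map (algebraMap S R) → ∀ u : R, u - 1 ∈ K →
      ∃ s ∈ J ^ m, e * (q - u * algebraMap S R s) ∈ (J ^ (m + 1)).map (algebraMap S R) := by
    intro m q hq
    induction hq using Submodule.span_induction with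
    | mem q hq =>
      obtain ⟨j, hj, rfl⟩ := hq
      intro u hu'
      refine ⟨j, hj, ?_⟩
      rw [show e * (algebraMap S R j - u * algebraMap S R j) = -(e * (u - 1) * algebraMap S R j) by ring]
      exact Ideal.neg_mem_iff _ |>.2 (he' m _ j hu' hj)
    | zero => exact fun u _ => ⟨0, zero_mem _, by simp⟩
    | add a b _ _ ha hb =>
      intro u hu'
      obtain ⟨s1, hs1, h1⟩ := ha u hu'
      obtain ⟨s2, hs2, h2⟩ := hb u hu'
      refine ⟨s1 + s2, add_mem hs1 hs2, ?_⟩
      rw [map_add, show e * (a + b - u * (algebraMap S R s1 + algebraMap S R s2)) =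
        e * (a - u * algebraMap S R s1) + e * (b - u * algebraMap S R s2) by ring]
      exact add_mem h1 h2
    | smul r a _ ha =>
      intro u hu'
      obtain ⟨s1, hs1, h1⟩ := ha u hu'
      obtain ⟨t, ht⟩ := hR r
      refine ⟨t * s1, Ideal.mul_mem_left _ _ hs1, ?_⟩
      rw [map_mul, smul_eq_mul, show e * (r * a - u * (algebraMap S R t * algebraMap S R s1)) =
        r * (e * (a - u * algebraMap S R s1)) + u * (e * (r - algebraMap S R t) * algebraMap S R s1) by ring]
      exact add_mem (Ideal.mul_mem_left _ _ h1) (Ideal.mul_mem_left _ _ (he' m _ s1 ht hs1))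
  induction n with
  | zero => exact ⟨0, by simp [Submodule.pow_zero, Ideal.one_eq_top, Ideal.map_top]⟩
  | succ n ih =>
    obtain ⟨s, hs⟩ := ih
    obtain ⟨s', -, hs'⟩ := step n _ hs (e ^ n) (hu n)
    refine ⟨s + s', ?_⟩
    rw [map_add, show e ^ (n + 1) * (f - (algebraMap S R s + algebraMap S R s')) =
      e * (e ^ n * (f - algebraMap S R s) - e ^ n * algebraMap S R s') by ring]
    exact hs'

end

end Groth.Agent.EtInv
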