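import Groth.Agent.EtInvLib.Main
import Groth.Agent.Comodule.HilbertFG
import Mathlib

/-!
# Descent of étaleness to the rings of invariants
-/

set_option autoImplicit false
set_option backward.isDefEq.respectTransparency false
set_option backward.isDefEq.respectTransparency.types false

noncomputable section

universe u

open TensorProduct WithConv

namespace Groth.Agent.EtInv

open Groth.Agent.Comodule Groth.Agent.EqZMT

variable {k : Type u} [Field k] {A : Type u} [CommRing A] [HopfAlgebra k A]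
variable {R : Type u} [CommRing R] [Algebra k R] [HopfRep.Comod k A R] [GLin.IsCoactAlg k A R]

theorem transl_invariant {c : R} (hc : c ∈ GLin.invariants k A R) (g : A →ₐ[k] k) : transl k A g c = c := by
  rw [transl_apply, (GLin.mem_invariants_iff _ _ _ _).1 hc]
  simp [rcon]

omit [HopfRep.Comod k A R] [GLin.IsCoactAlg k A R] in
/-- The average with respect to an integral is fixed, in every comodule. -/
theorem avg_mem_fixed {V : Type u} [AddCommGroup V] [Module k V] [HopfRep.Comod k A V] (l : A →ₗ[k] k)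
    (hl : ∀ a, l.rTensor A (Coalgebra.comul (R := k) a) = l a ⊗ₜ[k] (1 : A)) (v : V) :
    ReynoldsOp.avg l v ∈ HopfRep.fixedPts k A V := by
  letI := HopfRep.Comod.trivial k A k
  haveI : TameAct.IsHopfMod k A k V :=
    { coact_smul := fun c m => by
        rw [map_smul, show HopfRep.Comod.coact (k := k) (A := A) c = c ⊗ₜ[k] (1 : A) from rfl]
        induction HopfRep.Comod.coact (k := k) (A := A) m with
        | zero => simp
        | add p q hp hq => simp only [map_add, smul_add, hp, hq]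
        | tmul p q => simp [TensorProduct.smul_tmul'] }
  exact reynolds_mem_fixedPts (k := k) (A := A) l (LinearMap.ext fun a => (hl a).symm) v

variable [IsAlgClosed k] [CharZero k] [Algebra.FiniteType k A]

/-- Extended ideals of the invariants contract to themselves. -/
theorem mem_of_mem_map (hA : HopfRep.IsLinearlyReductive k A) {R₀ : Type u} [CommRing R₀] [Algebra R₀ R]
    (hi : Function.Injective (algebraMap R₀ R))
    (hR₀ : ∀ c : R, c ∈ GLin.invariants k A R ↔ ∃ r, algebraMap R₀ R r = c)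
    (I : Ideal R₀) {c : R₀} (hc : algebraMap R₀ R c ∈ I.map (algebraMap R₀ R)) : c ∈ I := by
  obtain ⟨l, h1, -, hmem, -⟩ := ReynoldsOp.avg_mem (V := R) hA
  have key : ∀ q ∈ I.map (algebraMap R₀ R), ∀ r : R, ∃ i ∈ I, ReynoldsOp.avg l (q * r) = algebraMap R₀ R i := by
    intro q hq
    induction hq using Submodule.span_induction with
    | mem q hq =>
      obtain ⟨i, hi', rfl⟩ := hq
      intro r
      obtain ⟨s, hs⟩ := (hR₀ _).1 (hmem r)
      refine ⟨i * s, I.mul_mem_right s hi', ?_⟩
      rw [Groth.Agent.RedQuot.avg_mul l _ ((hR₀ _).2 ⟨i, rfl⟩), map_mul, hs]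
    | zero => exact fun r => ⟨0, I.zero_mem, by simp⟩
    | add a b _ _ ha hb =>
      intro r
      obtain ⟨i, hi1, h⟩ := ha r
      obtain ⟨j, hj1, h'⟩ := hb r
      exact ⟨i + j, I.add_mem hi1 hj1, by rw [add_mul, map_add, h, h', map_add]⟩
    | smul a b _ hb =>
      intro r
      rw [smul_eq_mul, show a * b * r = b * (a * r) by ring]
      exact hb _
  obtain ⟨i, hiI, h⟩ := key _ hc 1
  rw [mul_one, ReynoldsOp.avg_fixed l h1 ((hR₀ _).2 ⟨c, rfl⟩)] at h
  exact hi h ▸ hiI

variable [IsDomain A] [Algebra.FiniteType k R]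
variable {S : Type u} [CommRing S] [IsDomain S] [IsIntegrallyClosed S] [Algebra k S] [Algebra.FiniteType k S]
  [HopfRep.Comod k A S] [GLin.IsCoactAlg k A S]
variable [Algebra S R] [IsScalarTower k S R] [Module.Finite S R]
variable {S₀ : Type u} [CommRing S₀] [Algebra k S₀] [Algebra S₀ S] [IsScalarTower k S₀ S]
variable {R₀ : Type u} [CommRing R₀] [Algebra k R₀] [Algebra R₀ R] [IsScalarTower k R₀ R]
variable [Algebra S₀ R₀] [Algebra S₀ R] [IsScalarTower S₀ S R] [IsScalarTower S₀ R₀ R]

theorem isIntegrallyClosed_invariants (hS₀i : Function.Injective (algebraMap S₀ S))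
    (hS₀ : ∀ c : S, c ∈ GLin.invariants k A S ↔ ∃ r, algebraMap S₀ S r = c) :
    IsIntegrallyClosed S₀ := by
  haveI : IsDomain S₀ := hS₀i.isDomain (algebraMap S₀ S)
  haveI : FaithfulSMul S₀ S := (faithfulSMul_iff_algebraMap_injective S₀ S).2 hS₀i
  rw [isIntegrallyClosed_iff (FractionRing S₀)]
  intro q hq
  obtain ⟨a, b, hb, rfl⟩ := IsFractionRing.div_surjective S₀ q
  have hb0 : b ≠ 0 := nonZeroDivisors.ne_zero hb
  let L := FractionRing S
  letI : Algebra (FractionRing S₀) L := FractionRing.liftAlgebra S₀ L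
  have hq' : IsIntegral S ((algebraMap S₀ L a) / algebraMap S₀ L b) := by
    have := hq.algebraMap (B := L)
    rw [map_div₀, ← IsScalarTower.algebraMap_apply, ← IsScalarTower.algebraMap_apply] at this
    exact this.tower_top
  obtain ⟨c, hc⟩ := IsIntegrallyClosed.algebraMap_eq_of_integral hq'
  have hbS : algebraMap S₀ S b ≠ 0 := fun h => hb0 (hS₀i (h.trans (map_zero _).symm))
  have hcb : c * algebraMap S₀ S b = algebraMap S₀ S a := by
    apply IsFractionRing.injective S L
    rw [map_mul, hc, ← IsScalarTower.algebraMap_apply, ← IsScalarTower.algebraMap_apply,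
      div_mul_cancel₀]
    rw [IsScalarTower.algebraMap_apply S₀ S L]
    exact fun h => hbS (IsFractionRing.injective S L (h.trans (map_zero _).symm))
  have hcinv : c ∈ GLin.invariants k A S := by
    rw [GLin.mem_invariants_iff]
    refine sub_eq_zero.1 (ext_rcon fun f => mul_right_cancel₀ hbS ?_)
    have ha := (GLin.mem_invariants_iff k A S _).1 ((hS₀ _).2 ⟨a, rfl⟩)
    rw [← hcb, GLin.IsCoactAlg.coact_mul, (GLin.mem_invariants_iff k A S _).1 ((hS₀ _).2 ⟨b, rfl⟩)] at ha
    have e : ∀ z : S ⊗[k] A, rcon f (z * algebraMap S₀ S b ⊗ₜ[k] (1 : A)) = rcon f z * algebraMap S₀ S b := by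
      intro z
      induction z with
      | zero => simp
      | add p q hp hq => simp only [add_mul, map_add, hp, hq]
      | tmul p q => simp [rcon]
    rw [map_sub, map_zero, zero_mul, sub_mul, ← e, ha]
    simp [rcon]
  obtain ⟨d, hd⟩ := (hS₀ _).1 hcinv
  refine ⟨d, ?_⟩
  rw [eq_div_iff (fun h => hb0 (IsFractionRing.injective S₀ (FractionRing S₀) (h.trans (map_zero _).symm))),
    ← map_mul]
  exact congrArg _ (hS₀i (by rw [map_mul, hd, hcb]))

theorem finiteType_invariants (hA : HopfRep.IsLinearlyReductive k A) (hR₀i : Function.Injective (algebraMap R₀ R))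
    (hR₀ : ∀ c : R, c ∈ GLin.invariants k A R ↔ ∃ r, algebraMap R₀ R r = c) :
    Algebra.FiniteType k R₀ := by
  have hbot : HopfRep.IsSubcomod (k := k) (A := A) (Subalgebra.toSubmodule (⊥ : Subalgebra k R)) :=
    isSubcomod_of_transl k A _ fun g c hc => by
      obtain ⟨a, rfl⟩ := Algebra.mem_bot.1 (show c ∈ (⊥ : Subalgebra k R) from hc)
      rw [AlgHom.commutes]
      exact (⊥ : Subalgebra k R).algebraMap_mem a
  haveI : Algebra.FiniteType (⊥ : Subalgebra k R) R :=
    Algebra.FiniteType.of_restrictScalars_finiteType k _ R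
  haveI : IsNoetherianRing (⊥ : Subalgebra k R) :=
    isNoetherianRing_of_surjective k _ (algebraMap k (⊥ : Subalgebra k R))
      (fun c => by obtain ⟨a, ha⟩ := Algebra.mem_bot.1 c.2; exact ⟨a, Subtype.ext ha⟩)
  obtain ⟨s, hs, hadj⟩ := HilbertFG.exists_finset_invariants_eq_adjoin hA (⊥ : Subalgebra k R) hbot
  refine ⟨Subalgebra.fg_of_fg_map (⊤ : Subalgebra k R₀) (IsScalarTower.toAlgHom k R₀ R) hR₀i ?_⟩
  rw [Algebra.map_top]
  have hrange : (IsScalarTower.toAlgHom k R₀ R).range = Algebra.adjoin k (s : Set R) := by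
    refine le_antisymm ?_ (Algebra.adjoin_le fun c hc => (hR₀ c).1 (hs hc))
    rintro _ ⟨r, rfl⟩
    have h := (hR₀ _).2 ⟨r, rfl⟩
    rw [hadj] at h
    refine Algebra.adjoin_le ?_ h
    rintro c (⟨hc, -⟩ | hc)
    · exact (bot_le : (⊥ : Subalgebra k R) ≤ _) hc
    · exact Algebra.subset_adjoin hc
  rw [hrange]
  exact ⟨s, rfl⟩

omit [IsDomain S] [IsIntegrallyClosed S] in
/-- The map of invariants is unramified at a closed orbit with a trivial isotropy jump. -/
theorem isUnramifiedAt_invariants (hA : HopfRep.IsLinearlyReductive k A) (hequiv : Equivariant k A S R)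
    (hS₀ : ∀ c : S, c ∈ GLin.invariants k A S ↔ ∃ r, algebraMap S₀ S r = c)
    (hR₀i : Function.Injective (algebraMap R₀ R))
    (hR₀ : ∀ c : R, c ∈ GLin.invariants k A R ↔ ∃ r, algebraMap R₀ R r = c)
    (x : R →ₐ[k] k) [(RingHom.ker x).IsPrime] (hcl : ∀ z : R →ₐ[k] k, RingHom.ker (GLin.orbitHom k A x) ≤ RingHom.ker z →
      ∃ g : A →ₐ[k] k, z = GLin.actPt k g x)
    [Algebra.IsEtaleAt S (RingHom.ker x)]
    (hinj : ∀ g : A →ₐ[k] k, GLin.actPt k g (x.comp (IsScalarTower.toAlgHom k S R)) =
      x.comp (IsScalarTower.toAlgHom k S R) → GLin.actPt k g x = x) :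
    Algebra.IsUnramifiedAt S₀ ((RingHom.ker x).comap (algebraMap R₀ R)) := by
  classical
  haveI : IsNoetherianRing S := Algebra.FiniteType.isNoetherianRing k S
  haveI : IsNoetherianRing R := Algebra.FiniteType.isNoetherianRing k R
  haveI : Algebra.FiniteType S R := Algebra.FiniteType.of_restrictScalars_finiteType k S R
  haveI : Algebra.FiniteType k R₀ := finiteType_invariants hA hR₀i hR₀
  haveI : IsNoetherianRing R₀ := Algebra.FiniteType.isNoetherianRing k R₀
  haveI : IsScalarTower k S₀ R₀ := IsScalarTower.of_algebraMap_eq fun c => hR₀i (by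
    rw [← IsScalarTower.algebraMap_apply k R₀ R, ← IsScalarTower.algebraMap_apply S₀ R₀ R,
      IsScalarTower.algebraMap_apply S₀ S R, ← IsScalarTower.algebraMap_apply k S₀ S,
      ← IsScalarTower.algebraMap_apply k S R])
  haveI : Algebra.FiniteType S₀ R₀ := Algebra.FiniteType.of_restrictScalars_finiteType k S₀ R₀
  -- the orbit ideals
  set y := x.comp (IsScalarTower.toAlgHom k S R) with hy
  set K := RingHom.ker (GLin.orbitHom k A x) with hK
  set J := RingHom.ker (GLin.orbitHom k A y) with hJ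
  haveI : J.IsPrime := RingHom.ker_isPrime _
  have hKx : K ≤ RingHom.ker x := ClosedOrbit.inOrbitClosure_refl x
  have hJK : J.map (algebraMap S R) ≤ K := by
    rw [Ideal.map_le_iff_le_comap, hK, comap_ker_orbit hequiv]
  have hKst : Stable (k := k) A K := stable_ker_orbit x
  have hJRst : Stable (k := k) A (J.map (algebraMap S R)) := stable_map hequiv (stable_ker_orbit y)
  have hR := exists_sub_mem_orbit hequiv hcl hinj
  -- an invariant element separating the orbit
  obtain ⟨r, hr, hr'⟩ := exists_mul_mem_map (RingHom.ker x) J K fun P hP hPx hJP =>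
    ker_orbit_le hequiv hcl P hP hPx hJP
  let C : Ideal R :=
    { carrier := {a | ∀ c ∈ K, a * c ∈ J.map (algebraMap S R)}
      add_mem' := fun ha hb c hc => by rw [add_mul]; exact Ideal.add_mem _ (ha c hc) (hb c hc)
      zero_mem' := fun c _ => by simp
      smul_mem' := fun a b hb c hc => by rw [smul_eq_mul, mul_assoc]; exact Ideal.mul_mem_left _ a (hb c hc) }
  have hCst : Stable (k := k) A C := fun g a ha => stable_colon hKst hJRst g ha
  obtain ⟨e, hei, heC, he1⟩ := exists_invariant_of_sup_eq_top hA hCst hKst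
    (sup_eq_top hcl hCst (show r ∈ C from hr') fun h => hr (RingHom.mem_ker.2 h))
  obtain ⟨e₀, he₀⟩ := (hR₀ e).1 hei
  have hxe : x e = 1 := by
    have := RingHom.mem_ker.1 (hKx he1)
    rwa [map_sub, map_one, sub_eq_zero] at this
  set m₀ := (RingHom.ker x).comap (algebraMap R₀ R) with hm₀
  haveI : m₀.IsMaximal := by
    have e' : m₀ = RingHom.ker (x.comp (IsScalarTower.toAlgHom k R₀ R)) := by ext; rfl
    rw [e']
    exact RingHom.ker_isMaximal_of_surjective _ fun c => ⟨algebraMap k R₀ c, AlgHom.commutes _ c⟩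
  have hmem0 : ∀ c : R₀, c ∈ m₀ ↔ x (algebraMap R₀ R c) = 0 := fun c => Iff.rfl
  -- cancelling elements equal to one at `x`
  have cancel : ∀ (Q : Ideal R₀) (b c : R₀), m₀ ^ 2 ≤ Q → x (algebraMap R₀ R b) = 1 → c ∈ m₀ →
      b * c ∈ Q → c ∈ Q := by
    intro Q b c hQ hb hc hbc
    have h2 : (1 - b) * c ∈ Q := hQ (by
      rw [pow_two]
      exact Ideal.mul_mem_mul ((hmem0 _).2 (by rw [map_sub, map_one, map_sub, map_one, hb, sub_self])) hc)
    rw [show c = b * c + (1 - b) * c by ring]
    exact Q.add_mem hbc h2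
  -- the orbit filtration is eventually inside the square of the maximal ideal
  let M₂ : Ideal R := (m₀ ^ 2).map (algebraMap R₀ R)
  let In : ℕ → Ideal R₀ := fun n => ((J ^ n).map (algebraMap S R)).comap (algebraMap R₀ R) ⊔ m₀ ^ 2
  haveI : IsArtinianRing (R₀ ⧸ m₀ ^ 2) := by
    rw [isArtinianRing_iff_isNoetherianRing_krullDimLE_zero]
    refine ⟨inferInstance, Ring.krullDimLE_zero_iff.2 fun P hP => ?_⟩
    haveI := hP.comap (Ideal.Quotient.mk (m₀ ^ 2))
    have hle : m₀ ≤ P.comap (Ideal.Quotient.mk (m₀ ^ 2)) := fun c hc =>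
      (hP.comap (Ideal.Quotient.mk (m₀ ^ 2))).mem_of_pow_mem 2 (by
        rw [Ideal.mem_comap, Ideal.Quotient.eq_zero_iff_mem.2 (Ideal.pow_mem_pow hc 2)]
        exact P.zero_mem)
    have hmax : (P.comap (Ideal.Quotient.mk (m₀ ^ 2))).IsMaximal := by
      rw [← Ideal.IsMaximal.eq_of_le ‹m₀.IsMaximal› (hP.comap _).ne_top hle]
      infer_instance
    rw [← Ideal.map_comap_of_surjective _ Ideal.Quotient.mk_surjective P]
    refine (Ideal.map_eq_top_or_isMaximal_of_surjective _ Ideal.Quotient.mk_surjective hmax).resolve_left ?_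
    rw [Ideal.map_comap_of_surjective _ Ideal.Quotient.mk_surjective]
    exact hP.ne_top
  let ch : ℕ →o (Submodule (R₀ ⧸ m₀ ^ 2) (R₀ ⧸ m₀ ^ 2))ᵒᵈ :=
    ⟨fun n => OrderDual.toDual ((In n).map (Ideal.Quotient.mk (m₀ ^ 2))), fun i j hij =>
      Ideal.map_mono (sup_le_sup_right (Ideal.comap_mono (Ideal.map_mono (Ideal.pow_le_pow_right hij))) _)⟩
  obtain ⟨N, hN⟩ := IsArtinian.monotone_stabilizes ch
  have hIn : ∀ c ∈ In N, ∀ n, c ∈ In n := by
    intro c hc n
    rcases le_total n N with h | h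
    · have hle : In N ≤ In n :=
        sup_le_sup_right (Ideal.comap_mono (Ideal.map_mono (Ideal.pow_le_pow_right h))) _
      exact hle hc
    · have h2 : Ideal.Quotient.mk (m₀ ^ 2) c ∈ (In n).map (Ideal.Quotient.mk (m₀ ^ 2)) := by
        rw [show (In n).map (Ideal.Quotient.mk (m₀ ^ 2)) = (In N).map (Ideal.Quotient.mk (m₀ ^ 2)) from (hN n h).symm]
        exact Ideal.mem_map_of_mem _ hc
      rw [← Ideal.mem_comap, Ideal.comap_map_of_surjective _ Ideal.Quotient.mk_surjective] at h2
      refine (sup_le le_rfl ?_ : In n ⊔ _ ≤ In n) h2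
      rw [← RingHom.ker_eq_comap_bot, Ideal.mk_ker]
      exact le_sup_right
  have hsq : ∀ c ∈ m₀, algebraMap R₀ R c ∈ (J ^ N).map (algebraMap S R) → c ∈ m₀ ^ 2 := by
    intro c hcm hcN
    have hcall : algebraMap R₀ R c ∈ ⨅ n : ℕ, ((J.map (algebraMap S R)) ^ n ⊔ M₂) := by
      rw [Submodule.mem_iInf]
      intro n
      rw [← Ideal.map_pow]
      obtain ⟨a, ha, b, hb, hab⟩ := Submodule.mem_sup.1 (hIn c (Ideal.mem_sup_left hcN) n)
      rw [← hab, map_add]
      exact Submodule.add_mem_sup ha (Ideal.mem_map_of_mem _ hb)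
    have hmk : Submodule.Quotient.mk (p := (M₂ : Submodule R R)) (algebraMap R₀ R c) ∈
        (⨅ n : ℕ, (J.map (algebraMap S R)) ^ n • ⊤ : Submodule R (R ⧸ M₂)) := by
      rw [Submodule.mem_iInf]
      intro n
      obtain ⟨a, ha, b, hb, hab⟩ := Submodule.mem_sup.1 (Submodule.mem_iInf _ |>.1 hcall n)
      rw [← hab, Submodule.Quotient.mk_add, (Submodule.Quotient.mk_eq_zero _).2 hb, add_zero,
        show (Submodule.Quotient.mk a : R ⧸ M₂) = a • Submodule.Quotient.mk (1 : R) by
          rw [← Submodule.Quotient.mk_smul, smul_eq_mul, mul_one]]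
      exact Submodule.smul_mem_smul ha Submodule.mem_top
    obtain ⟨⟨a, ha⟩, hac⟩ := (Ideal.mem_iInf_smul_pow_eq_bot_iff _ _).1 hmk
    have hM₂ : Stable (k := k) A M₂ := by
      refine Stable.span fun g q hq => ?_
      obtain ⟨i, hi, rfl⟩ := hq
      rw [transl_invariant ((hR₀ _).2 ⟨i, rfl⟩)]
      exact Ideal.subset_span ⟨i, hi, rfl⟩
    let D : Ideal R :=
      { carrier := {q | q * algebraMap R₀ R c ∈ M₂}
        add_mem' := fun ha hb => by simp only [Set.mem_setOf_eq, add_mul] at *; exact M₂.add_mem ha hb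
        zero_mem' := by simp
        smul_mem' := fun a b hb => by
          simp only [Set.mem_setOf_eq, smul_eq_mul, mul_assoc] at *; exact M₂.mul_mem_left a hb }
    have hDst : Stable (k := k) A D := by
      intro g q hq
      show transl k A g q * algebraMap R₀ R c ∈ M₂
      rw [← transl_invariant ((hR₀ _).2 ⟨c, rfl⟩) g, ← map_mul]
      exact hM₂ g _ hq
    have hDK : D ⊔ K = ⊤ := by
      have h1 : a - 1 ∈ D := by
        show (a - 1) * algebraMap R₀ R c ∈ M₂
        rw [← Submodule.Quotient.mk_eq_zero, sub_mul, one_mul, Submodule.Quotient.mk_sub, ← smul_eq_mul,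
          Submodule.Quotient.mk_smul]
        exact sub_eq_zero.2 hac
      rw [Ideal.eq_top_iff_one, show (1 : R) = -(a - 1) + a by ring]
      exact Submodule.add_mem_sup (D.neg_mem h1) (hJK ha)
    obtain ⟨b, hbi, hbD, hb1⟩ := exists_invariant_of_sup_eq_top hA hDst hKst hDK
    obtain ⟨b₀, hb₀⟩ := (hR₀ b).1 hbi
    have hbc : b₀ * c ∈ m₀ ^ 2 := mem_of_mem_map hA hR₀i hR₀ _ (by rw [map_mul, hb₀]; exact hbD)
    refine cancel _ b₀ c le_rfl ?_ hcm hbc
    have := RingHom.mem_ker.1 (hKx hb1)
    rw [map_sub, map_one, sub_eq_zero] at this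
    rw [hb₀, this]
  -- the tangent surjectivity
  have htan : m₀ ≤ (m₀.under S₀).map (algebraMap S₀ R₀) ⊔ m₀ ^ 2 := by
    intro f hf
    obtain ⟨l, h1, hl, hmem, hstab⟩ := ReynoldsOp.avg_mem (V := R) hA
    obtain ⟨s, hs⟩ := exists_approx hequiv heC he1 hR N (algebraMap R₀ R f)
    obtain ⟨s₀, hs₀⟩ := (hS₀ _).1 (avg_mem_fixed l hl s)
    have hρ : ReynoldsOp.avg l (algebraMap S R s) = algebraMap S R (ReynoldsOp.avg l s) := by
      have hu : Hoch.IsComodHom A (IsScalarTower.toAlgHom k S R).toLinearMap := by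
        refine LinearMap.ext fun w => ?_
        simp only [LinearMap.comp_apply, AlgHom.toLinearMap_apply, IsScalarTower.coe_toAlgHom']
        rw [hequiv]
        induction HopfRep.Comod.coact (k := k) (A := A) w with
        | zero => simp
        | add p q hp hq => simp only [map_add, hp, hq]
        | tmul p q => simp
      exact (ReynoldsOp.avg_natural l _ hu s).symm
    have hE : ReynoldsOp.avg l (e ^ N * (algebraMap R₀ R f - algebraMap S R s)) ∈
        (J ^ N).map (algebraMap S R) :=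
      hstab _ (stable_map hequiv ((stable_ker_orbit y).pow N)).isSubcomod _ hs
    rw [Groth.Agent.RedQuot.avg_mul l _ (pow_mem hei N), map_sub,
      ReynoldsOp.avg_fixed l h1 ((hR₀ _).2 ⟨f, rfl⟩), hρ, ← hs₀, ← IsScalarTower.algebraMap_apply S₀ S R,
      IsScalarTower.algebraMap_apply S₀ R₀ R, ← he₀, ← map_pow, ← map_sub, ← map_mul] at hE
    have hdiff : x (algebraMap R₀ R (f - algebraMap S₀ R₀ s₀)) = 0 := by
      by_cases hN0 : x (algebraMap R₀ R (e₀ ^ N * (f - algebraMap S₀ R₀ s₀))) = 0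
      · rwa [map_mul, map_pow, he₀, map_mul, map_pow, hxe, one_pow, one_mul] at hN0
      · exfalso
        rcases Nat.eq_zero_or_pos N with hN' | hN'
        · have h1N : (1 : R₀) ∈ In N := Ideal.mem_sup_left (by
            rw [Ideal.mem_comap, hN', pow_zero, Ideal.one_eq_top, Ideal.map_top]; trivial)
          obtain ⟨a, ha, b, hb, hab⟩ := Submodule.mem_sup.1 (hIn 1 h1N 1)
          have ha' : a ∈ m₀ := (hmem0 _).2 (RingHom.mem_ker.1 (hKx (hJK (by simpa using ha))))
          exact ‹m₀.IsMaximal›.ne_top ((Ideal.eq_top_iff_one _).2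
            (hab ▸ m₀.add_mem ha' (Ideal.pow_le_self two_ne_zero hb)))
        · exact hN0 (RingHom.mem_ker.1 (hKx (hJK (Ideal.map_mono (Ideal.pow_le_self hN'.ne') hE))))
    have hprod : e₀ ^ N * (f - algebraMap S₀ R₀ s₀) ∈ m₀ ^ 2 :=
      hsq _ (Ideal.mul_mem_left _ _ ((hmem0 _).2 hdiff)) hE
    have hd2 : f - algebraMap S₀ R₀ s₀ ∈ m₀ ^ 2 :=
      cancel _ (e₀ ^ N) _ le_rfl (by rw [map_pow, he₀, map_pow, hxe, one_pow]) ((hmem0 _).2 hdiff) hprod
    have hs₀m : algebraMap S₀ R₀ s₀ ∈ m₀ := by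
      have := m₀.sub_mem hf (Ideal.pow_le_self two_ne_zero hd2)
      simpa using this
    rw [show f = algebraMap S₀ R₀ s₀ + (f - algebraMap S₀ R₀ s₀) by ring]
    exact Submodule.add_mem_sup (Ideal.mem_map_of_mem _ (show s₀ ∈ m₀.under S₀ from hs₀m)) hd2
  -- conclusion
  show Algebra.IsUnramifiedAt S₀ m₀
  letI := Localization.AtPrime.algebraOfLiesOver (m₀.under S₀) m₀
  rw [Algebra.isUnramifiedAt_iff_map_eq S₀ (m₀.under S₀) m₀]
  refine ⟨⟨fun z => ?_⟩, ?_⟩
  · obtain ⟨c, rfl⟩ := m₀.algebraMap_residueField_surjective z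
    have hc : c - algebraMap k R₀ (x (algebraMap R₀ R c)) ∈ m₀ := (hmem0 _).2 (by
      rw [map_sub, ← IsScalarTower.algebraMap_apply, map_sub, AlgHom.commutes]; simp)
    have e' : algebraMap R₀ m₀.ResidueField c = algebraMap (m₀.under S₀).ResidueField m₀.ResidueField
        (algebraMap S₀ (m₀.under S₀).ResidueField (algebraMap k S₀ (x (algebraMap R₀ R c)))) := by
      rw [← IsScalarTower.algebraMap_apply, IsScalarTower.algebraMap_apply S₀ R₀ m₀.ResidueField,
        ← IsScalarTower.algebraMap_apply k S₀ R₀]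
      have h0 : algebraMap R₀ m₀.ResidueField (c - algebraMap k R₀ (x (algebraMap R₀ R c))) = 0 :=
        Ideal.algebraMap_residueField_eq_zero.2 hc
      rwa [map_sub, sub_eq_zero] at h0
    rw [e']
    exact isSeparable_algebraMap _
  · refine le_antisymm ?_ ?_
    · rw [← Localization.AtPrime.map_eq_maximalIdeal, IsScalarTower.algebraMap_eq S₀ R₀ (Localization.AtPrime m₀),
        ← Ideal.map_map]
      exact Ideal.map_mono Ideal.map_comap_le
    · have h2 : IsLocalRing.maximalIdeal (Localization.AtPrime m₀) ≤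
          (m₀.under S₀).map (algebraMap S₀ (Localization.AtPrime m₀)) ⊔
            IsLocalRing.maximalIdeal (Localization.AtPrime m₀) * IsLocalRing.maximalIdeal (Localization.AtPrime m₀) := by
        conv_lhs => rw [← Localization.AtPrime.map_eq_maximalIdeal]
        refine (Ideal.map_mono htan).trans ?_
        rw [Ideal.map_sup, Ideal.map_map, ← IsScalarTower.algebraMap_eq, Ideal.map_pow,
          Localization.AtPrime.map_eq_maximalIdeal, pow_two]
      exact Submodule.le_of_le_smul_of_le_jacobson_bot (IsNoetherian.noetherian _)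
        (IsLocalRing.maximalIdeal_le_jacobson _) h2

/-- Luna's fundamental lemma. -/
theorem isEtaleAt_invariants [IsDomain R] (hA : HopfRep.IsLinearlyReductive k A) (hequiv : Equivariant k A S R)
    (hS₀i : Function.Injective (algebraMap S₀ S))
    (hS₀ : ∀ c : S, c ∈ GLin.invariants k A S ↔ ∃ r, algebraMap S₀ S r = c)
    (hR₀i : Function.Injective (algebraMap R₀ R))
    (hR₀ : ∀ c : R, c ∈ GLin.invariants k A R ↔ ∃ r, algebraMap R₀ R r = c)
    (x : R →ₐ[k] k) [(RingHom.ker x).IsPrime] (hx : GLin.IsClosedOrbit k A x)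
    [Algebra.IsEtaleAt S (RingHom.ker x)]
    (hinj : ∀ g : A →ₐ[k] k, GLin.actPt k g (x.comp (IsScalarTower.toAlgHom k S R)) =
      x.comp (IsScalarTower.toAlgHom k S R) → GLin.actPt k g x = x) :
    Algebra.IsEtaleAt S₀ ((RingHom.ker x).comap (algebraMap R₀ R)) := by
  classical
  haveI : IsNoetherianRing S := Algebra.FiniteType.isNoetherianRing k S
  haveI : IsNoetherianRing R := Algebra.FiniteType.isNoetherianRing k R
  haveI : Algebra.FiniteType S R := Algebra.FiniteType.of_restrictScalars_finiteType k S R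
  haveI : Algebra.FinitePresentation S R := Algebra.FinitePresentation.of_finiteType.mp inferInstance
  haveI : IsDomain S₀ := hS₀i.isDomain (algebraMap S₀ S)
  haveI : IsDomain R₀ := hR₀i.isDomain (algebraMap R₀ R)
  haveI : IsIntegrallyClosed S₀ := isIntegrallyClosed_invariants hS₀i hS₀
  haveI : Algebra.FiniteType k R₀ := finiteType_invariants hA hR₀i hR₀
  haveI : IsNoetherianRing R₀ := Algebra.FiniteType.isNoetherianRing k R₀
  haveI : IsScalarTower k S₀ R₀ := IsScalarTower.of_algebraMap_eq fun c => hR₀i (by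
    rw [← IsScalarTower.algebraMap_apply k R₀ R, ← IsScalarTower.algebraMap_apply S₀ R₀ R,
      IsScalarTower.algebraMap_apply S₀ S R, ← IsScalarTower.algebraMap_apply k S₀ S,
      ← IsScalarTower.algebraMap_apply k S R])
  haveI : Algebra.FiniteType S₀ R₀ := Algebra.FiniteType.of_restrictScalars_finiteType k S₀ R₀
  have hinjSR : Function.Injective (algebraMap S R) := by
    haveI : Module.Flat S (Localization.AtPrime (RingHom.ker x)) := EtLocalLib.flat_of_isEtaleAt S R (RingHom.ker x)
    refine (injective_iff_map_eq_zero _).2 fun s hs => by_contra fun hs0 => ?_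
    have h := IsSMulRegular.of_flat (S := Localization.AtPrime (RingHom.ker x))
      (IsRegular.of_ne_zero hs0).left.isSMulRegular
    rw [IsScalarTower.algebraMap_apply S R (Localization.AtPrime (RingHom.ker x)), hs, map_zero] at h
    exact one_ne_zero (α := Localization.AtPrime (RingHom.ker x)) (h (by simp))
  have hinj₀ : Function.Injective (algebraMap S₀ R₀) := fun a b h => hS₀i (hinjSR (by
    rw [← IsScalarTower.algebraMap_apply, ← IsScalarTower.algebraMap_apply,
      IsScalarTower.algebraMap_apply S₀ R₀ R, h, ← IsScalarTower.algebraMap_apply]))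
  haveI := isUnramifiedAt_invariants hA hequiv hS₀ hR₀i hR₀ x
    (fun z hz => ClosedOrbit.exists_actPt_eq_of_isClosedOrbit hx hz) hinj
  exact FreeQuotEt.isEtaleAt_of_unramified_normal S₀ R₀ hinj₀ _

end Groth.Agent.EtInv
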