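import Groth.Agent.EqZMTLib.Basic
import Groth.Agent.Comodule.ClosedOrbit
import Groth.Agent.Comodule.ReynoldsOp
import Groth.Agent.RedQuotLib.BaseChange
import Mathlib

/-!
# Translations, stable ideals and orbit ideals
-/

set_option autoImplicit false
set_option backward.isDefEq.respectTransparency false
set_option backward.isDefEq.respectTransparency.types false

noncomputable section

universe u

open TensorProduct WithConv

namespace Groth.Agent.EtInv

open Groth.Agent.Comodule Groth.Agent.EqZMT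

variable {k : Type u} [Field k] {A : Type u} [CommRing A] [HopfAlgebra k A]
variable {R : Type u} [CommRing R] [Algebra k R] [HopfRep.Comod k A R] [GLin.IsCoactAlg k A R]

omit [HopfRep.Comod k A R] [GLin.IsCoactAlg k A R] in
theorem toLinearMap_convMul (g h : A →ₐ[k] k) :
    (toConv g * toConv h).ofConv.toLinearMap = (toConv g.toLinearMap * toConv h.toLinearMap).ofConv := by
  refine LinearMap.ext fun a => ?_
  rw [LinearMap.convMul_def, AlgHom.toLinearMap_apply, AlgHom.convMul_apply]
  simp only [LinearMap.comp_apply]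
  induction Coalgebra.comul (R := k) a with
  | zero => simp
  | add p q hp hq => simp only [map_add, hp, hq]
  | tmul p q => simp

theorem transl_transl (g h : A →ₐ[k] k) (r : R) :
    transl k A g (transl k A h r) = transl k A (toConv g * toConv h).ofConv r := by
  rw [transl_apply, transl_apply, transl_apply, toLinearMap_convMul]
  exact (dact_mul g.toLinearMap h.toLinearMap r).symm

theorem transl_one (r : R) : transl k A (1 : WithConv (A →ₐ[k] k)).ofConv r = r := by
  rw [transl_apply]
  have e : (1 : WithConv (A →ₐ[k] k)).ofConv.toLinearMap = (1 : WithConv (A →ₗ[k] k)).ofConv := by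
    ext a
    simp [LinearMap.convOne_def]
  rw [e]
  exact dact_one r

/-- The inverse point. -/
def inv (g : A →ₐ[k] k) : A →ₐ[k] k := g.comp (HopfAlgebra.antipodeAlgHom k A)

theorem transl_transl_inv (g : A →ₐ[k] k) (r : R) : transl k A g (transl k A (inv g) r) = r := by
  rw [transl_transl, inv, mul_comp_antipode, transl_one]

omit [GLin.IsCoactAlg k A R] in
theorem act_eq_dact (g : A →ₐ[k] k) (r : R) : HopfRep.Comod.act k A R g r = dact g.toLinearMap r := rfl

theorem actPt_apply (g : A →ₐ[k] k) (x : R →ₐ[k] k) (r : R) :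
    GLin.actPt k g x r = x (transl k A g r) := by
  rw [← ClosedOrbit.x_act, transl_apply]
  rfl

/-- An ideal stable under all translations. -/
def Stable (A : Type u) [CommRing A] [HopfAlgebra k A] [HopfRep.Comod k A R] [GLin.IsCoactAlg k A R]
    (I : Ideal R) : Prop :=
  ∀ (g : A →ₐ[k] k) (r : R), r ∈ I → transl k A g r ∈ I

theorem Stable.sup {I J : Ideal R} (hI : Stable (k := k) A I) (hJ : Stable (k := k) A J) :
    Stable (k := k) A (I ⊔ J) := by
  intro g r hr
  obtain ⟨a, ha, b, hb, rfl⟩ := Submodule.mem_sup.1 hr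
  rw [map_add]
  exact Submodule.add_mem_sup (hI g a ha) (hJ g b hb)

theorem Stable.span {s : Set R} (h : ∀ (g : A →ₐ[k] k), ∀ r ∈ s, transl k A g r ∈ Ideal.span s) :
    Stable (k := k) A (Ideal.span s) := by
  intro g r hr
  have h' : (Ideal.span s).map (transl (R := R) k A g).toRingHom ≤ Ideal.span s := by
    rw [Ideal.map_span, Ideal.span_le]
    rintro _ ⟨x, hx, rfl⟩
    exact h g x hx
  exact h' (Ideal.mem_map_of_mem _ hr)

theorem Stable.pow {I : Ideal R} (hI : Stable (k := k) A I) (n : ℕ) : Stable (k := k) A (I ^ n) := by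
  intro g r hr
  have h' : (I ^ n).map (transl (R := R) k A g).toRingHom ≤ I ^ n := by
    rw [Ideal.map_pow]
    exact Ideal.pow_right_mono (Ideal.map_le_iff_le_comap.2 fun x hx => hI g x hx) n
  exact h' (Ideal.mem_map_of_mem _ hr)

/-- The ideal of elements moving `P` into `Q`. -/
theorem stable_colon {P Q : Ideal R} (hP : Stable (k := k) A P) (hQ : Stable (k := k) A Q)
    (g : A →ₐ[k] k) {r : R} (hr : ∀ c ∈ P, r * c ∈ Q) : ∀ c ∈ P, transl k A g r * c ∈ Q := by
  intro c hc
  rw [← transl_transl_inv g c, ← map_mul]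
  exact hQ g _ (hr _ (hP _ _ hc))

variable [IsAlgClosed k] [CharZero k] [Algebra.FiniteType k A]

theorem Stable.isSubcomod {I : Ideal R} (hI : Stable (k := k) A I) :
    HopfRep.IsSubcomod (k := k) (A := A) (I.restrictScalars k) :=
  isSubcomod_of_transl k A _ hI

theorem mem_ker_orbit_iff (x : R →ₐ[k] k) (r : R) :
    r ∈ RingHom.ker (GLin.orbitHom k A x) ↔ ∀ g : A →ₐ[k] k, x (transl k A g r) = 0 := by
  haveI : IsReduced A := HopfGr.isReduced_charZero (k := k)
  refine ⟨fun h g => ?_, fun h => ?_⟩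
  · rw [← actPt_apply, GLin.actPt, AlgHom.comp_apply, RingHom.mem_ker.1 h, map_zero]
  · by_contra h0
    obtain ⟨g, hg⟩ := PropAct.exists_pt_ne_zero (K := k) (show GLin.orbitHom k A x r ≠ 0 from h0)
    refine hg ?_
    have := h g
    rwa [← actPt_apply, GLin.actPt, AlgHom.comp_apply] at this

theorem stable_ker_orbit (x : R →ₐ[k] k) : Stable (k := k) A (RingHom.ker (GLin.orbitHom k A x)) := by
  intro g r hr
  rw [mem_ker_orbit_iff]
  intro h
  rw [transl_transl]
  exact (mem_ker_orbit_iff x r).1 hr _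

variable [Algebra.FiniteType k R]

/-- A stable ideal not vanishing at `x` does not meet the closed orbit of `x`. -/
theorem sup_eq_top {x : R →ₐ[k] k} (hcl : ∀ z : R →ₐ[k] k,
      RingHom.ker (GLin.orbitHom k A x) ≤ RingHom.ker z → ∃ g : A →ₐ[k] k, z = GLin.actPt k g x)
    {I : Ideal R} (hI : Stable (k := k) A I) {r : R} (hr : r ∈ I) (hrx : x r ≠ 0) :
    I ⊔ RingHom.ker (GLin.orbitHom k A x) = ⊤ := by
  by_contra hne
  obtain ⟨φ, hφ⟩ := ClosedOrbit.exists_pt (k := k) hne
  obtain ⟨g, rfl⟩ := hcl φ (le_sup_right.trans hφ)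
  have h1 : GLin.actPt k g x (transl k A (inv g) r) = 0 :=
    RingHom.mem_ker.1 (hφ (Ideal.mem_sup_left (hI _ _ hr)))
  rw [actPt_apply, transl_transl_inv] at h1
  exact hrx h1

/-- An invariant element of a stable ideal which is `1` along a stable ideal comaximal to it. -/
theorem exists_invariant_of_sup_eq_top (hA : HopfRep.IsLinearlyReductive k A) {I J : Ideal R}
    (hI : Stable (k := k) A I) (hJ : Stable (k := k) A J) (h : I ⊔ J = ⊤) :
    ∃ e ∈ GLin.invariants k A R, e ∈ I ∧ e - 1 ∈ J := by
  obtain ⟨l, h1, -, hmem, hstab⟩ := ReynoldsOp.avg_mem (V := R) hA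
  obtain ⟨a, ha, b, hb, hab⟩ := Submodule.mem_sup.1 (h ▸ Submodule.mem_top : (1 : R) ∈ _)
  refine ⟨ReynoldsOp.avg l a, hmem a, hstab _ hI.isSubcomod a ha, ?_⟩
  have hb' : ReynoldsOp.avg l b ∈ J := hstab _ hJ.isSubcomod b hb
  have h1' : ReynoldsOp.avg (V := R) l 1 = 1 := ReynoldsOp.avg_fixed l h1 (GLin.invariants k A R).one_mem
  have e : ReynoldsOp.avg l a - 1 = -ReynoldsOp.avg l b := by
    calc ReynoldsOp.avg l a - 1 = ReynoldsOp.avg l a - ReynoldsOp.avg (V := R) l 1 := by rw [h1']
      _ = -ReynoldsOp.avg l b := by rw [← hab, map_add]; abel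
  rw [e]
  exact J.neg_mem hb'

omit [HopfRep.Comod k A R] [GLin.IsCoactAlg k A R] [Algebra.FiniteType k R] in
theorem finite_points_over {S : Type u} [CommRing S] [Algebra k S] [Algebra S R] [IsScalarTower k S R]
    [Module.Finite S R] (y : S →ₐ[k] k) :
    {z : R →ₐ[k] k | z.comp (IsScalarTower.toAlgHom k S R) = y}.Finite := by
  haveI : (RingHom.ker y).IsPrime := RingHom.ker_isPrime _
  refine Set.Finite.of_finite_image (f := fun z : R →ₐ[k] k => RingHom.ker z) ?_ ?_
  · refine (Algebra.QuasiFinite.finite_primesOver (R := S) (S := R) (RingHom.ker y)).subset ?_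
    rintro _ ⟨z, hz, rfl⟩
    exact ⟨RingHom.ker_isPrime z, ⟨Ideal.ext fun s => by
      rw [← hz]; rfl⟩⟩
  · intro z _ z' _ h
    refine AlgHom.ext fun r => ?_
    have h' : r - algebraMap k R (z r) ∈ RingHom.ker z := by simp [RingHom.mem_ker]
    change RingHom.ker z = RingHom.ker z' at h
    rw [h, RingHom.mem_ker, map_sub, AlgHom.commutes, sub_eq_zero] at h'
    simpa using h'.symm

end Groth.Agent.EtInv
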